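import Cfsg.Agent.H77.Homocyclic.Lattice
import Cfsg.Agent.H37.CartanMap

/-!
The largest eigenspaces of Weyl group elements of the exceptional types and of D4.
-/
set_option autoImplicit false

namespace Cfsg.Agent.H77.Homocyclic

open Polynomial Matrix Cfsg.Agent.H37

variable {n : ℕ}

/-- A primitive `d`-th root of unity is an eigenvalue of multiplicity at most the number of degrees
divisible by `d`. -/
def EigenBound (A : Matrix (Fin n) (Fin n) ℤ) (degs : List ℕ) : Prop :=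
  ∀ M ∈ weylMonoid A, ∀ l : ℕ, l ≠ 0 → M ^ l = 1 → ∀ d k : ℕ, (∃ e ∈ degs, d ∣ e) →
    cyclotomic d ℤ ^ k ∣ M.charpoly → k ≤ (degs.filter (fun e => d ∣ e)).length

theorem eigenBound_of (A : Matrix (Fin n) (Fin n) ℤ) (degs exc : List ℕ) (B : ℕ)
    (hB : ∀ e ∈ degs, 0 < e ∧ e < B)
    (hdec : ∀ d < B, (∃ e ∈ degs, d ∣ e) →
      d ∈ exc ∨ n < ((degs.filter (fun e => d ∣ e)).length + 1) * d.totient)
    (hexc : ∀ d ∈ exc, ∀ M ∈ weylMonoid A, ∀ l : ℕ, l ≠ 0 → M ^ l = 1 →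
      ¬ cyclotomic d ℤ ^ ((degs.filter (fun e => d ∣ e)).length + 1) ∣ M.charpoly) :
    EigenBound A degs := by
  intro M hM l hl0 hl d k hd hk
  by_contra hlt
  have hk' := (pow_dvd_pow (cyclotomic d ℤ)
    (by omega : (degs.filter (fun e => d ∣ e)).length + 1 ≤ k)).trans hk
  have hdB : d < B := by
    obtain ⟨e, he, hde⟩ := hd
    exact lt_of_le_of_lt (Nat.le_of_dvd (hB e he).1 hde) (hB e he).2
  rcases hdec d hdB hd with h | h
  · exact hexc d h M hM l hl0 hl hk'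
  · exact absurd (mul_totient_le hk') (by omega)

theorem eigenBound_G2 : EigenBound cartanG2 [2, 6] :=
  eigenBound_of _ _ [] 7 (by decide) (by decide +kernel) (by simp)

theorem eigenBound_B2 : EigenBound cartanB2 [2, 4] :=
  eigenBound_of _ _ [] 5 (by decide) (by decide +kernel) (by simp)

theorem eigenBound_F4 : EigenBound cartanF4 [2, 6, 8, 12] :=
  eigenBound_of _ _ [] 13 (by decide) (by decide +kernel) (by simp)

theorem eigenBound_E8 : EigenBound cartanE8 [2, 8, 12, 14, 18, 20, 24, 30] :=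
  eigenBound_of _ _ [] 31 (by decide) (by decide +kernel) (by simp)

theorem cyclotomic_four_int : cyclotomic 4 ℤ = X ^ 2 + 1 := by
  rw [show (4 : ℕ) = 2 ^ (1 + 1) from rfl, cyclotomic_prime_pow_eq_geom_sum Nat.prime_two]
  simp [Finset.sum_range_succ, add_comm]

theorem eval_one_cyclotomic_six : (cyclotomic 6 ℤ).eval 1 = 1 := by
  refine eval_one_cyclotomic_not_prime_pow fun {p} hp k h => ?_
  have h2 := (Nat.prime_dvd_prime_iff_eq Nat.prime_two hp).1
    (Nat.prime_two.dvd_of_dvd_pow (n := k) (h ▸ (by norm_num : 2 ∣ 6)))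
  have h3 := (Nat.prime_dvd_prime_iff_eq Nat.prime_three hp).1
    (Nat.prime_three.dvd_of_dvd_pow (n := k) (h ▸ (by norm_num : 3 ∣ 6)))
  omega

/-- The cofactor of a power of a cyclotomic polynomial in a characteristic polynomial. -/
theorem exists_cofactor {M : Matrix (Fin n) (Fin n) ℤ} {l d k : ℕ} (hl : M ^ l = 1)
    (h : cyclotomic d ℤ ^ k ∣ M.charpoly) :
    ∃ g : ℤ[X], g.Monic ∧ g ∣ (X ^ l - 1) ^ n ∧ g.natDegree + k * d.totient = n ∧
      M.charpoly = cyclotomic d ℤ ^ k * g := by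
  obtain ⟨g, hg⟩ := h
  have hgm : g.Monic :=
    ((cyclotomic.monic d ℤ).pow k).of_mul_monic_left (hg ▸ M.charpoly_monic)
  refine ⟨g, hgm, ((Dvd.intro_left _ hg.symm)).trans (charpoly_dvd hl), ?_, hg⟩
  have := congrArg natDegree hg
  rw [Matrix.charpoly_natDegree_eq_dim, Fintype.card_fin, ((cyclotomic.monic d ℤ).pow k).natDegree_mul hgm,
    natDegree_pow, natDegree_cyclotomic] at this
  omega

theorem charpoly_eq_pow {M : Matrix (Fin n) (Fin n) ℤ} {l d k : ℕ} (hl : M ^ l = 1)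
    (hk : k * d.totient = n) (h : cyclotomic d ℤ ^ k ∣ M.charpoly) :
    M.charpoly = cyclotomic d ℤ ^ k := by
  obtain ⟨g, hgm, -, hdeg, hg⟩ := exists_cofactor hl h
  rw [hg, hgm.natDegree_eq_zero.1 (by omega), mul_one]

theorem eigenBound_D4 : EigenBound cartanD4 [2, 4, 4, 6] := by
  refine eigenBound_of _ _ [3, 6] 7 (by decide) (by decide +kernel) ?_
  intro d hd M hM l _ hl hdvd
  have hfix := fixed_mod (p := 2) (u := ![1, 0, 1, 0]) (by decide +kernel) hM
  have h0 := cast_eval_one_eq_zero (by decide) hfix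
  simp only [List.mem_cons, List.not_mem_nil, or_false] at hd
  rcases hd with rfl | rfl
  · rw [charpoly_eq_pow hl (k := 2) (by decide +kernel) hdvd, eval_pow, cyclotomic_three] at h0
    simp at h0
    revert h0; decide
  · rw [charpoly_eq_pow hl (k := 2) (by decide +kernel) hdvd, eval_pow, eval_one_cyclotomic_six] at h0
    simp at h0

/-- The inverse Cartan matrix of type E6, times three. -/
def adjE6 : Matrix (Fin 6) (Fin 6) ℤ :=
  !![4, 3, 5, 6, 4, 2; 3, 6, 6, 9, 6, 3; 5, 6, 10, 12, 8, 4; 6, 9, 12, 18, 12, 6;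
    4, 6, 8, 12, 10, 5; 2, 3, 4, 6, 5, 4]

/-- The inverse Cartan matrix of type E7, times two. -/
def adjE7 : Matrix (Fin 7) (Fin 7) ℤ :=
  !![4, 4, 6, 8, 6, 4, 2; 4, 7, 8, 12, 9, 6, 3; 6, 8, 12, 16, 12, 8, 4; 8, 12, 16, 24, 18, 12, 6;
    6, 9, 12, 18, 15, 10, 5; 4, 6, 8, 12, 10, 8, 4; 2, 3, 4, 6, 5, 4, 3]

theorem pos_E6 (v : Fin 6 → ℤ) (hv : v ≠ 0) : 0 < v ⬝ᵥ (cartanE6 *ᵥ v) := by
  have e : 60 * (v ⬝ᵥ (cartanE6 *ᵥ v)) = 30 * (2 * v 0 - v 2) ^ 2 + 30 * (2 * v 1 - v 3) ^ 2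
      + 10 * (3 * v 2 - 2 * v 3) ^ 2 + 2 * (5 * v 3 - 6 * v 4) ^ 2
      + 3 * (4 * v 4 - 5 * v 5) ^ 2 + 45 * v 5 ^ 2 := by
    simp [cartanE6, Matrix.mulVec, dotProduct, Fin.sum_univ_succ]
    ring
  by_contra h
  refine hv ?_
  have h5 : v 5 = 0 := by nlinarith
  have h4 : v 4 = 0 := by nlinarith
  have h3 : v 3 = 0 := by nlinarith
  have h2 : v 2 = 0 := by nlinarith
  have h1 : v 1 = 0 := by nlinarith
  have h0 : v 0 = 0 := by nlinarith
  funext i
  fin_cases i <;> assumption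

theorem pos_E7 (v : Fin 7 → ℤ) (hv : v ≠ 0) : 0 < v ⬝ᵥ (cartanE7 *ᵥ v) := by
  have e : 60 * (v ⬝ᵥ (cartanE7 *ᵥ v)) = 30 * (2 * v 0 - v 2) ^ 2 + 30 * (2 * v 1 - v 3) ^ 2
      + 10 * (3 * v 2 - 2 * v 3) ^ 2 + 2 * (5 * v 3 - 6 * v 4) ^ 2
      + 3 * (4 * v 4 - 5 * v 5) ^ 2 + 5 * (3 * v 5 - 4 * v 6) ^ 2 + 40 * v 6 ^ 2 := by
    simp [cartanE7, Matrix.mulVec, dotProduct, Fin.sum_univ_succ]
    ring
  by_contra h
  refine hv ?_
  have h6 : v 6 = 0 := by nlinarith
  have h5 : v 5 = 0 := by nlinarith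
  have h4 : v 4 = 0 := by nlinarith
  have h3 : v 3 = 0 := by nlinarith
  have h2 : v 2 = 0 := by nlinarith
  have h1 : v 1 = 0 := by nlinarith
  have h0 : v 0 = 0 := by nlinarith
  funext i
  fin_cases i <;> assumption

/-- No element of the Weyl group of type E6 negates a hyperplane and fixes a vector. -/
theorem no_reflection_E6 {M : Matrix (Fin 6) (Fin 6) ℤ} (hM : M ∈ weylMonoid cartanE6)
    {v f : Fin 6 → ℤ} (hgcd : Finset.univ.gcd v = 1) (hMv : M *ᵥ v = v) (hfv : f ⬝ᵥ v = 2)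
    (hT : M + 1 = Matrix.of fun i j => v i * f j) : False := by
  obtain ⟨-, hdvd⟩ := reflection_norm (A' := adjE6) (δ := 3) (by decide +kernel : cartanE6ᵀ = cartanE6)
    (by decide +kernel) (form_invariant (by decide +kernel) hM) hgcd hMv hfv hT
  have hfix := fixed_mod (p := 3) (u := ![1, 0, 2, 0, 1, 2]) (by decide +kernel) hM
  set φ := Int.castRingHom (ZMod 3) with hφ
  set u : Fin 6 → ZMod 3 := ![1, 0, 2, 0, 1, 2] with hu
  set a : ZMod 3 := (fun j => φ (f j)) ⬝ᵥ u with ha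
  have hprop : ∀ i, a * φ (v i) = 2 * u i := by
    intro i
    have h1 := congrFun hfix i
    have h2 : ((M + 1).map φ *ᵥ u) i = a * φ (v i) := by
      rw [hT]
      simp only [Matrix.mulVec, dotProduct, Matrix.map_apply, Matrix.of_apply, map_mul, ha,
        Finset.sum_mul]
      exact Finset.sum_congr rfl fun j _ => by ring
    rw [← h2, Matrix.map_add φ (map_add φ), Matrix.map_one φ (map_zero φ) (map_one φ),
      Matrix.add_mulVec, Matrix.one_mulVec, Pi.add_apply, h1, two_mul]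
  have ha0 : a ≠ 0 := fun h => by
    have := hprop 0
    rw [h, zero_mul] at this
    revert this
    rw [hu]; decide
  have hAv : ∀ i, (3 : ℤ) ∣ (cartanE6 *ᵥ v) i := by
    intro i
    refine (ZMod.intCast_zmod_eq_zero_iff_dvd _ 3).1 ?_
    have h1 : a * φ ((cartanE6 *ᵥ v) i) = 2 * ((cartanE6.map φ) *ᵥ u) i := by
      simp only [Matrix.mulVec, dotProduct, map_sum, map_mul, Finset.mul_sum, Matrix.map_apply]
      refine Finset.sum_congr rfl fun j _ => ?_
      linear_combination φ (cartanE6 i j) * hprop j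
    have h2 : (cartanE6.map φ) *ᵥ u = 0 := by rw [hu, hφ]; decide +kernel
    rw [h2, Pi.zero_apply, mul_zero] at h1
    exact (mul_eq_zero.1 h1).resolve_left ha0
  choose w hw using hAv
  have hvw : v = adjE6 *ᵥ w := by
    have h1 : adjE6 *ᵥ (cartanE6 *ᵥ v) = (3 : ℤ) • v := by
      rw [Matrix.mulVec_mulVec, show adjE6 * cartanE6 = (3 : ℤ) • 1 by decide +kernel,
        Matrix.smul_mulVec, Matrix.one_mulVec]
    rw [show cartanE6 *ᵥ v = (3 : ℤ) • w from funext hw, Matrix.mulVec_smul] at h1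
    exact (smul_right_injective (Fin 6 → ℤ) (by norm_num : (3 : ℤ) ≠ 0) h1).symm
  have hv0 : v ≠ 0 := fun h => by rw [h, dotProduct_zero] at hfv; norm_num at hfv
  have hpos := pos_E6 v hv0
  rw [show cartanE6 *ᵥ v = (3 : ℤ) • w from funext hw, dotProduct_smul, smul_eq_mul] at hdvd hpos
  have hle := Int.le_of_dvd (by norm_num) hdvd
  have hq : ((v ⬝ᵥ w : ℤ) : ZMod 6) =
      4 * ((w 0 : ZMod 6) + 2 * (w 2 : ZMod 6) + (w 4 : ZMod 6) + 2 * (w 5 : ZMod 6)) ^ 2 := by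
    rw [hvw]
    simp [adjE6, Matrix.mulVec, dotProduct, Fin.sum_univ_succ]
    ring_nf
    reduce_mod_char
  have hl : ∀ x : ZMod 6, 4 * x ^ 2 ≠ 1 ∧ 4 * x ^ 2 ≠ 2 := by decide
  obtain h | h : v ⬝ᵥ w = 1 ∨ v ⬝ᵥ w = 2 := by omega
  · exact (hl _).1 (by rw [← hq, h]; rfl)
  · exact (hl _).2 (by rw [← hq, h]; rfl)

theorem eigenBound_E6 : EigenBound cartanE6 [2, 5, 6, 8, 9, 12] := by
  refine eigenBound_of _ _ [2, 4, 6] 13 (by decide) (by decide +kernel) ?_
  intro d hd M hM l hl0 hl hdvd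
  have hfix := fixed_mod (p := 3) (u := ![1, 0, 2, 0, 1, 2]) (by decide +kernel) hM
  have h0 := cast_eval_one_eq_zero (by decide) hfix
  simp only [List.mem_cons, List.not_mem_nil, or_false] at hd
  rcases hd with rfl | rfl | rfl
  · obtain ⟨g, hgm, hgd, hdeg, hg⟩ := exists_cofactor hl (k := 5) hdvd
    rw [Nat.totient_two] at hdeg
    obtain ⟨e, he, rfl⟩ := linear_factor hgm (by omega) hl0 hgd
    rcases he with rfl | rfl
    · rw [cyclotomic_two] at hg
      obtain ⟨v, f, hgcd, hMv, hfv, hT⟩ :=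
        rank_one hl hl0 (k := 5) (by norm_num) (by simp : ((X : ℤ[X]) + 1).eval 1 = 2) hg
      rw [map_add, aeval_X, map_one] at hT
      exact no_reflection_E6 hM hgcd (by rw [hMv, one_smul]) hfv hT
    · rw [hg, cyclotomic_two] at h0
      simp at h0
      revert h0; decide
  · rw [charpoly_eq_pow hl (k := 3) (by decide +kernel) hdvd, eval_pow, cyclotomic_four_int] at h0
    simp at h0
    revert h0; decide
  · rw [charpoly_eq_pow hl (k := 3) (by decide +kernel) hdvd, eval_pow, eval_one_cyclotomic_six] at h0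
    simp at h0

/-- No element of the Weyl group of type E7 has a square negating a hyperplane and fixing a
vector fixed or negated by the element. -/
theorem no_reflection_E7 {M : Matrix (Fin 7) (Fin 7) ℤ} (hM : M ∈ weylMonoid cartanE7)
    {v f : Fin 7 → ℤ} {e : ℤ} (he : e * e = 1) (hgcd : Finset.univ.gcd v = 1)
    (hMv : M *ᵥ v = e • v) (hfv : f ⬝ᵥ v = 2)
    (hT : M * M + 1 = Matrix.of fun i j => v i * f j) : False := by
  have hsym : cartanE7ᵀ = cartanE7 := by decide +kernel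
  have hform := form_invariant (A := cartanE7) (by decide +kernel) hM
  have hform2 := form_invariant (A := cartanE7) (by decide +kernel) (mul_mem hM hM)
  have hMMv : (M * M) *ᵥ v = v := by
    rw [← Matrix.mulVec_mulVec, hMv, Matrix.mulVec_smul, hMv, smul_smul, he, one_smul]
  obtain ⟨hf, hdvd⟩ := reflection_norm (A' := adjE7) (δ := 2) hsym (by decide +kernel) hform2 hgcd
    hMMv hfv hT
  have hv0 : v ≠ 0 := fun h => by rw [h, dotProduct_zero] at hfv; norm_num at hfv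
  have hpos := pos_E7 v hv0
  have hle := Int.le_of_dvd (by norm_num) hdvd
  by_cases hAv : ∀ i, (2 : ℤ) ∣ (cartanE7 *ᵥ v) i
  · choose w hw using hAv
    have hvw : v = adjE7 *ᵥ w := by
      have h1 : adjE7 *ᵥ (cartanE7 *ᵥ v) = (2 : ℤ) • v := by
        rw [Matrix.mulVec_mulVec, show adjE7 * cartanE7 = (2 : ℤ) • 1 by decide +kernel,
          Matrix.smul_mulVec, Matrix.one_mulVec]
      rw [show cartanE7 *ᵥ v = (2 : ℤ) • w from funext hw, Matrix.mulVec_smul] at h1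
      exact (smul_right_injective (Fin 7 → ℤ) (by norm_num : (2 : ℤ) ≠ 0) h1).symm
    rw [show cartanE7 *ᵥ v = (2 : ℤ) • w from funext hw, dotProduct_smul, smul_eq_mul] at hpos hle
    have hq : ((v ⬝ᵥ w : ℤ) : ZMod 4) =
        3 * ((w 1 : ZMod 4) + (w 4 : ZMod 4) + (w 6 : ZMod 4)) ^ 2 := by
      rw [hvw]
      simp [adjE7, Matrix.mulVec, dotProduct, Fin.sum_univ_succ]
      ring_nf
      reduce_mod_char
    have hl : ∀ x : ZMod 4, 3 * x ^ 2 ≠ 1 ∧ 3 * x ^ 2 ≠ 2 := by decide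
    obtain h | h : v ⬝ᵥ w = 1 ∨ v ⬝ᵥ w = 2 := by omega
    · exact (hl _).1 (by rw [← hq, h]; rfl)
    · exact (hl _).2 (by rw [← hq, h]; rfl)
  · push Not at hAv
    obtain ⟨i, hi⟩ := hAv
    have heven : (2 : ℤ) ∣ v ⬝ᵥ (cartanE7 *ᵥ v) := by
      refine ⟨v 0 ^ 2 + v 1 ^ 2 + v 2 ^ 2 + v 3 ^ 2 + v 4 ^ 2 + v 5 ^ 2 + v 6 ^ 2
        - v 0 * v 2 - v 1 * v 3 - v 2 * v 3 - v 3 * v 4 - v 4 * v 5 - v 5 * v 6, ?_⟩
      simp [cartanE7, Matrix.mulVec, dotProduct, Fin.sum_univ_succ]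
      ring
    have hN : v ⬝ᵥ (cartanE7 *ᵥ v) = 2 ∨ v ⬝ᵥ (cartanE7 *ᵥ v) = 4 := by omega
    rcases hN with hN | hN
    · have hfi : ∀ j, f j = (cartanE7 *ᵥ v) j := fun j => by
        have := hf j; rw [hN] at this; linarith
      refine hi ?_
      have h1 : (Mᵀ * cartanE7 * (M * M + 1)) i i = 2 * (cartanE7 * M) i i := by
        have e2 : Mᵀ * cartanE7 * (M * M + 1) = cartanE7 * M + (cartanE7 * M)ᵀ := by
          rw [Matrix.transpose_mul, hsym, mul_add, mul_one, ← mul_assoc, hform]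
        rw [e2, Matrix.add_apply, Matrix.transpose_apply, two_mul]
      have h3 : Mᵀ *ᵥ (cartanE7 *ᵥ v) = e • (cartanE7 *ᵥ v) := by
        calc Mᵀ *ᵥ (cartanE7 *ᵥ v) = (e * e) • (Mᵀ *ᵥ (cartanE7 *ᵥ v)) := by rw [he, one_smul]
          _ = e • ((Mᵀ * cartanE7 * M) *ᵥ v) := by
            rw [← Matrix.mulVec_mulVec v (Mᵀ * cartanE7) M, hMv, Matrix.mulVec_smul,
              ← Matrix.mulVec_mulVec v Mᵀ cartanE7, smul_smul]
          _ = _ := by rw [hform]
      have h2 : (Mᵀ * cartanE7 * (M * M + 1)) i i = e * (cartanE7 *ᵥ v) i ^ 2 := by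
        rw [hT]
        calc (Mᵀ * cartanE7 * Matrix.of fun i j => v i * f j) i i
            = ((Mᵀ * cartanE7) *ᵥ v) i * f i := by
              rw [Matrix.mul_apply]
              simp only [Matrix.mulVec, dotProduct, Matrix.of_apply, Finset.sum_mul, mul_assoc]
          _ = _ := by
              rw [← Matrix.mulVec_mulVec, h3, hfi, Pi.smul_apply, smul_eq_mul]; ring
      rw [h1] at h2
      have h4 : (2 : ℤ) ∣ (cartanE7 *ᵥ v) i ^ 2 := ⟨e * (cartanE7 * M) i i, by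
        linear_combination (-((cartanE7 *ᵥ v) i ^ 2)) * he - e * h2⟩
      exact Int.prime_two.dvd_of_dvd_pow h4
    · refine hi ⟨f i, ?_⟩
      have := hf i; rw [hN] at this; linarith

theorem eigenBound_E7 : EigenBound cartanE7 [2, 6, 8, 10, 12, 14, 18] := by
  refine eigenBound_of _ _ [4] 19 (by decide) (by decide +kernel) ?_
  intro d hd M hM l hl0 hl hdvd
  simp only [List.mem_cons, List.not_mem_nil, or_false] at hd
  subst hd
  obtain ⟨g, hgm, hgd, hdeg, hg⟩ := exists_cofactor hl (k := 3) hdvd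
  have ht : Nat.totient 4 = 2 := by decide +kernel
  rw [ht] at hdeg
  obtain ⟨e, he, rfl⟩ := linear_factor hgm (by omega) hl0 hgd
  rw [cyclotomic_four_int] at hg
  obtain ⟨v, f, hgcd, hMv, hfv, hT⟩ := rank_one hl hl0 (k := 3) (by norm_num)
    (show Polynomial.eval e ((X : ℤ[X]) ^ 2 + 1) = 2 by rcases he with rfl | rfl <;> simp) hg
  rw [map_add, map_pow, aeval_X, map_one, sq] at hT
  exact no_reflection_E7 hM (by rcases he with rfl | rfl <;> norm_num) hgcd hMv hfv hT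

end Cfsg.Agent.H77.Homocyclic
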