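import Cfsg.Agent.H77.Homocyclic.Torus
import Cfsg.Agent.H77.Homocyclic.Bounds
import Cfsg.Agent.H37.Chev.Order
import Cfsg.Agent.Arith.SylowGL

/-!
Sylow subgroups of exceptional Chevalley groups for primes prime to the order of the Weyl group.
-/
set_option autoImplicit false

namespace Cfsg.Agent.H77.Homocyclic

open Cfsg.Lie Matrix
open Cfsg.Agent.H37 (KerCert)
open Cfsg.Agent.Chevalley (torus)

/-- An abelian group of exponent dividing `r ^ a`, order `r ^ (a m)` and rank at most `m`. -/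
theorem homocyclic_of_bound {P : Type*} [CommGroup P] [Finite P] {r a m : ℕ} [hr : Fact r.Prime]
    (ha : 0 < a) (hexp : ∀ x : P, x ^ r ^ a = 1) (hcard : Nat.card P = r ^ (a * m))
    (htor : Nat.card {x : P // x ^ r = 1} ≤ r ^ m) :
    Nonempty (P ≃* (Fin m → Multiplicative (ZMod (r ^ a)))) := by
  classical
  obtain ⟨ι, _, k, hk, ⟨φ⟩⟩ := CommGroup.equiv_prod_multiplicative_zmod_of_finite P
  have hdvd : ∀ i, k i ∣ r ^ a := by
    intro i
    set x := φ.symm (Pi.mulSingle i (Multiplicative.ofAdd (1 : ZMod (k i)))) with hx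
    have h1 := congrArg φ (hexp x)
    rw [map_pow, map_one, hx, MulEquiv.apply_symm_apply] at h1
    have h2 := congrFun h1 i
    rw [Pi.pow_apply, Pi.mulSingle_eq_same, Pi.one_apply, ← ofAdd_nsmul, ofAdd_eq_one,
      nsmul_one] at h2
    exact (ZMod.natCast_eq_zero_iff _ _).1 h2
  choose b hb hkb using fun i => (Nat.dvd_prime_pow hr.out).1 (hdvd i)
  have hb1 : ∀ i, 1 ≤ b i := fun i => by
    by_contra h
    have := hk i
    rw [hkb i, show b i = 0 by omega, pow_zero] at this
    exact lt_irrefl 1 this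
  have hsum : ∑ i, b i = a * m := by
    refine Nat.pow_right_injective hr.out.two_le ?_
    show r ^ _ = r ^ _
    rw [← hcard, Nat.card_congr φ.toEquiv, Nat.card_pi, ← Finset.prod_pow_eq_pow_sum]
    refine Finset.prod_congr rfl fun i _ => ?_
    rw [Nat.card_congr Multiplicative.toAdd, Nat.card_zmod, hkb i]
  have hι : Fintype.card ι ≤ m := by
    refine (Nat.pow_le_pow_iff_right hr.out.one_lt).1 (le_trans ?_ htor)
    have hex : ∀ i, ∃ f : Multiplicative (ZMod r) →* Multiplicative (ZMod (k i)),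
        Function.Injective f := by
      intro i
      haveI : NeZero (k i) := ⟨by have := hk i; omega⟩
      refine Arith.exists_zmod_hom ?_
      rw [Nat.card_congr Multiplicative.toAdd, Nat.card_zmod, hkb i]
      exact dvd_pow_self r (by have := hb1 i; omega)
    choose f hf using hex
    let g : (ι → Multiplicative (ZMod r)) → {x : P // x ^ r = 1} := fun v =>
      ⟨φ.symm fun i => f i (v i), by
        rw [← map_pow, ← map_one φ.symm]
        congr 1
        funext i
        rw [Pi.pow_apply, Pi.one_apply, ← map_pow, ← map_one (f i)]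
        congr 1
        exact Multiplicative.toAdd.injective (by simp)⟩
    have hg : Function.Injective g := fun v w h => by
      funext i
      exact hf i (congrFun (φ.symm.injective (congrArg Subtype.val h)) i)
    have := Nat.card_le_card_of_injective g hg
    rwa [Nat.card_fun, Nat.card_eq_fintype_card (α := ι), Nat.card_congr Multiplicative.toAdd,
      Nat.card_zmod] at this
  have hle : ∑ i, b i ≤ Fintype.card ι * a := by
    refine (Finset.sum_le_card_nsmul Finset.univ b a fun i _ => hb i).trans ?_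
    simp
  have hιm : Fintype.card ι = m := by
    refine le_antisymm hι (Nat.le_of_mul_le_mul_left ?_ ha)
    calc a * m = ∑ i, b i := hsum.symm
      _ ≤ Fintype.card ι * a := hle
      _ = a * Fintype.card ι := mul_comm _ _
  have hall : ∀ i, b i = a := by
    intro i
    refine (Finset.sum_eq_sum_iff_of_le fun j _ => hb j).1 ?_ i (Finset.mem_univ i)
    rw [hsum, Finset.sum_const, Finset.card_univ, hιm, smul_eq_mul, mul_comm]
  obtain rfl : k = fun _ => r ^ a := funext fun i => by rw [hkb i, hall i]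
  exact ⟨φ.trans (MulEquiv.arrowCongr (Fintype.equivFinOfCardEq hιm) (MulEquiv.refl _))⟩

section Valuation

variable {r : ℕ} [hr : Fact r.Prime] {q : ℕ}

theorem padicValNat_term (hq : 2 ≤ q) (hrq : ¬ r ∣ q) {e : ℕ} (he : ¬ r ∣ e) (hr2 : r ≠ 2) :
    padicValNat r (q ^ e - 1) = if orderOf (q : ZMod r) ∣ e
      then padicValNat r (q ^ orderOf (q : ZMod r) - 1) else 0 := by
  set d := orderOf (q : ZMod r) with hd
  have hdpos : 0 < d := Arith.orderOf_pos_of_not_dvd hrq
  split_ifs with h
  · obtain ⟨j, rfl⟩ := h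
    have hj : ¬ r ∣ j := fun h => he (h.mul_left d)
    rw [pow_mul, Arith.padicValNat_pow_sub_one hr.out (le_trans hq (Nat.le_self_pow hdpos.ne' q))
      (fun h0 => hj (by rw [h0]; exact dvd_zero r)) ((Arith.dvd_pow_sub_one_iff (by omega)).2 dvd_rfl)
      (fun h2 => absurd h2 hr2), padicValNat.eq_zero_of_not_dvd hj, add_zero]
  · exact padicValNat.eq_zero_of_not_dvd fun hd' => h ((Arith.dvd_pow_sub_one_iff (by omega)).1 hd')

theorem padicValNat_prod (hq : 2 ≤ q) (hrq : ¬ r ∣ q) (hr2 : r ≠ 2) :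
    ∀ degs : List ℕ, (∀ e ∈ degs, ¬ r ∣ e) →
      (degs.map fun e => q ^ e - 1).prod ≠ 0 ∧
        padicValNat r (degs.map fun e => q ^ e - 1).prod =
          (degs.filter (fun e => orderOf (q : ZMod r) ∣ e)).length *
            padicValNat r (q ^ orderOf (q : ZMod r) - 1)
  | [], _ => by simp
  | e :: degs, h => by
    obtain ⟨h0, hv⟩ := padicValNat_prod hq hrq hr2 degs fun x hx => h x (by simp [hx])
    have he := h e (by simp)
    have he0 : q ^ e - 1 ≠ 0 :=
      Arith.pow_sub_one_ne_zero hq (fun h' => he (h' ▸ dvd_zero r))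
    rw [List.map_cons, List.prod_cons]
    refine ⟨mul_ne_zero he0 h0, ?_⟩
    rw [padicValNat.mul he0 h0, hv, padicValNat_term hq hrq he hr2, List.filter_cons]
    by_cases hde : orderOf (q : ZMod r) ∣ e
    · simp [hde, add_mul, add_comm]
    · simp [hde]

end Valuation

/-- The normal form of a conjugating element works for all diagonal elements at once. -/
theorem fusion_all {D : ChevalleyDatum} {K : Type*} [Field K] (Q : H37.Chev.Data D K)
    {g : GL D.Idx K} (hg : g ∈ D.group K) :
    ∃ n ∈ D.monomialSubgroup K, ∀ h₁ ∈ D.diagonalSubgroup K, ∀ h₂ ∈ D.diagonalSubgroup K,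
      g * h₁ * g⁻¹ = h₂ → n * h₁ * n⁻¹ = h₂ := by
  obtain ⟨u, hu, h, hh, w, v, hv, rfl⟩ := Q.mem_group_exists hg
  refine ⟨h * Q.repGL w, mul_mem (Subgroup.mem_sup_left hh) (Q.rep_mem_monomial w), ?_⟩
  intro h₁ h1 h₂ h2 hc
  have hU : ∀ k ∈ D.diagonalSubgroup K, ∀ a ∈ D.posUnipotent K,
      k * a * k⁻¹ ∈ D.posUnipotent K := by
    intro k hk a ha
    have ha' : (⟨a, H37.posUnipotent_le_group ha⟩ : ↥(D.group K)) ∈ Q.amb.U := by
      rw [Q.amb_U]; exact ha
    have := Q.amb.H_conj_U ⟨k, H37.diagonal_le_group Q.ord hk⟩ hk _ ha'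
    rw [Q.amb_U] at this
    exact this
  have hv' : h₁⁻¹ * v * h₁ ∈ Q.UwGL w := by
    obtain ⟨a, ha, rfl⟩ := hv
    have hk : (⟨h₁⁻¹, H37.diagonal_le_group Q.ord (inv_mem h1)⟩ : ↥(D.group K)) ∈ Q.sys.H :=
      inv_mem h1
    refine ⟨⟨h₁⁻¹, H37.diagonal_le_group Q.ord (inv_mem h1)⟩ * a *
      ⟨h₁⁻¹, H37.diagonal_le_group Q.ord (inv_mem h1)⟩⁻¹,
      H37.RootSys.conj_mem_XS (fun s hs t => ?_) ha, by simp⟩
    obtain ⟨t', e⟩ := Q.sys.h_conj _ hk s (H37.RootSys.Sys.mem_flip.1 hs).1 t
    rw [e]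
    exact H37.RootSys.x_mem_XS hs t'
  set nw := Q.repGL w
  have e : u * (h * (nw * h₁ * nw⁻¹)) * nw * (h₁⁻¹ * v * h₁)
      = h₂ * u * h₂⁻¹ * (h₂ * h) * nw * v := by
    rw [← hc]; group
  have := Q.unique_GL hu (hU h₂ h2 u hu) (mul_mem hh (Q.repGL_conj_H w h1)) (mul_mem h2 hh)
    hv' hv e
  rw [show h * nw * h₁ * (h * nw)⁻¹ = h * (nw * h₁ * nw⁻¹) * h⁻¹ by group, this.2.2.1,
    mul_inv_cancel_right]

universe u

theorem sylow_homocyclic {D : ChevalleyDatum} (degs : List ℕ) {d₀ e₀ : ℕ}
    (Cker : KerCert (cartanMat D) d₀ e₀) (hbound : EigenBound (cartanMat D) degs)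
    (hlen : degs.length = D.rank)
    (mk : ∀ (L : Type) [Field L], H37.Chev.Data D L) (r : ℕ) [hr : Fact r.Prime] (hr2 : r ≠ 2)
    (hrd : ¬ r ∣ d₀) (hdegs : ∀ e ∈ degs, ¬ r ∣ e)
    (hW : ∀ (L : Type) [Field L], ¬ r ∣ Nat.card (mk L).X.M.Group)
    (hord : ∀ (L : Type) [Field L] [Fintype L], ∃ c, ¬ r ∣ c ∧
      c * Nat.card ↥(D.group L) =
        Fintype.card L ^ (D.nroots / 2) * (degs.map fun e => Fintype.card L ^ e - 1).prod ∧
      c * Nat.card ↥(D.diagonalSubgroup L) = (Fintype.card L - 1) ^ D.rank)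
    {F : Type u} [Field F] [Fintype F] {q : ℕ} (hq : Fintype.card F = q) (hrq : ¬ r ∣ q)
    (hordF : ∃ c, ¬ r ∣ c ∧ c * Nat.card ↥(D.group F) =
      q ^ (D.nroots / 2) * (degs.map fun e => q ^ e - 1).prod)
    (hrG : r ∣ Nat.card ↥(D.group F)) (P : Sylow r ↥(D.group F)) :
    Nonempty (↥(P : Subgroup ↥(D.group F)) ≃*
      (Fin (degs.filter (fun e => orderOf (q : ZMod r) ∣ e)).length →
        Multiplicative (ZMod (r ^ padicValNat r
          ((Polynomial.cyclotomic (orderOf (q : ZMod r)) ℤ).eval (q : ℤ)).natAbs)))) := by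
  classical
  have hq2 : 2 ≤ q := hq ▸ Fintype.one_lt_card
  change Nonempty (_ ≃* (Fin _ → Multiplicative (ZMod (r ^ padicValNat r
    (Arith.phiVal (orderOf (q : ZMod r)) q)))))
  rw [Arith.padicValNat_phiVal hq2 hrq]
  set d := orderOf (q : ZMod r) with hd
  set a := padicValNat r (q ^ d - 1) with ha
  set m := (degs.filter (fun e => d ∣ e)).length with hm
  have hdpos : 0 < d := Arith.orderOf_pos_of_not_dvd hrq
  have hQ2 : 2 ≤ q ^ d := le_trans hq2 (Nat.le_self_pow hdpos.ne' q)
  have hrQ : r ∣ q ^ d - 1 := (Arith.dvd_pow_sub_one_iff (by omega)).2 dvd_rfl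
  have hapos : 0 < a := one_le_padicValNat_of_dvd (by omega) hrQ
  -- order of the group over `F`
  obtain ⟨c, hrc, hcG⟩ := hordF
  obtain ⟨hprod0, hprodv⟩ := padicValNat_prod hq2 hrq hr2 degs hdegs
  have hc0 : c ≠ 0 := fun h => hrc (h ▸ dvd_zero r)
  have hvG : padicValNat r (Nat.card ↥(D.group F)) = a * m := by
    have := congrArg (padicValNat r) hcG
    rw [padicValNat.mul hc0 Nat.card_pos.ne', padicValNat.eq_zero_of_not_dvd hrc, zero_add,
      padicValNat.mul (pow_ne_zero _ (by omega)) hprod0,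
      padicValNat.eq_zero_of_not_dvd (n := q ^ (D.nroots / 2))
        (fun h => hrq (hr.out.dvd_of_dvd_pow h)), zero_add, hprodv] at this
    rw [this, mul_comm]
  have hmpos : 0 < m := by
    have := one_le_padicValNat_of_dvd Nat.card_pos.ne' hrG
    rw [hvG] at this
    exact Nat.pos_of_ne_zero fun h => by rw [h, mul_zero] at this; omega
  have hex : ∃ e ∈ degs, d ∣ e := by
    obtain ⟨e, he⟩ := List.exists_mem_of_length_pos hmpos
    rw [List.mem_filter, decide_eq_true_eq] at he
    exact ⟨e, he⟩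
  have hPcard : Nat.card ↥(P : Subgroup ↥(D.group F)) = r ^ (a * m) := by
    rw [P.card_eq_multiplicity, Nat.factorization_def _ hr.out, hvG]
  -- the extension field
  obtain ⟨p, hp⟩ := CharP.exists F
  have hpp : p.Prime :=
    (CharP.char_is_prime_or_zero F p).resolve_right (CharP.char_ne_zero_of_finite F p)
  have := Fact.mk hpp
  have : NeZero d := ⟨hdpos.ne'⟩
  let K := FiniteField.Extension F p d
  have : Fintype K := Fintype.ofFinite K
  have hK : Fintype.card K = q ^ d := by
    rw [← Nat.card_eq_fintype_card, FiniteField.natCard_extension, Nat.card_eq_fintype_card, hq]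
  have hKu : Nat.card Kˣ = q ^ d - 1 := by
    rw [Nat.card_units, Nat.card_eq_fintype_card, hK]
  set Q := mk K with hQ
  set C := Q.K with hC
  let ι : F →+* K := algebraMap F K
  let σ : K →+* K := (FiniteField.frobeniusAlgHom F K).toRingHom
  have hσ : ∀ x, σ x = x ^ q := fun x => by
    show FiniteField.frobeniusAlgHom F K x = _
    rw [← hq]; rfl
  have hσι : ∀ x : GL D.Idx F, Matrix.GeneralLinearGroup.map σ (Matrix.GeneralLinearGroup.map ι x)
      = Matrix.GeneralLinearGroup.map ι x := by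
    intro x
    refine Units.ext (Matrix.ext fun i j => ?_)
    exact (FiniteField.frobeniusAlgHom F K).commutes _
  let φ : ↥(D.group F) →* ↥(D.group K) :=
    ((Matrix.GeneralLinearGroup.map ι).comp (D.group F).subtype).codRestrict _
      fun x => C.map_mem_group ι x.2
  have hφ : Function.Injective φ := by
    intro x y h
    refine Subtype.ext (Units.ext (Matrix.ext fun i j => ι.injective ?_))
    exact congrFun (congrFun (congrArg (fun z : ↥(D.group K) =>
      ((z : GL D.Idx K) : Matrix D.Idx D.Idx K)) h) i) j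
  -- the diagonal subgroup contains a Sylow subgroup
  obtain ⟨c', hrc', hcK, hcH⟩ := hord K
  have hc'0 : c' ≠ 0 := fun h => hrc' (h ▸ dvd_zero r)
  have hrQ' : ¬ r ∣ q ^ d := fun h => hrq (hr.out.dvd_of_dvd_pow h)
  set H' := (D.diagonalSubgroup K).subgroupOf (D.group K) with hH'
  have hH'card : Nat.card H' = Nat.card ↥(D.diagonalSubgroup K) :=
    Nat.card_congr (Subgroup.subgroupOfEquivOfLe (H37.diagonal_le_group Q.ord)).toEquiv
  have hvH : padicValNat r (Nat.card H') = padicValNat r (Nat.card ↥(D.group K)) := by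
    rw [hK] at hcK hcH
    have hterm : orderOf ((q ^ d : ℕ) : ZMod r) = 1 := by
      rw [orderOf_eq_one_iff, Nat.cast_pow, hd, pow_orderOf_eq_one]
    obtain ⟨hp0, hpv⟩ := padicValNat_prod hQ2 hrQ' hr2 degs hdegs
    rw [hterm] at hpv
    simp only [one_dvd, decide_true, List.filter_true, pow_one, hlen] at hpv
    have h1 := congrArg (padicValNat r) hcK
    rw [padicValNat.mul hc'0 Nat.card_pos.ne', padicValNat.eq_zero_of_not_dvd hrc', zero_add,
      padicValNat.mul (pow_ne_zero _ (by omega)) hp0,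
      padicValNat.eq_zero_of_not_dvd (n := (q ^ d) ^ (D.nroots / 2))
        (fun h => hrQ' (hr.out.dvd_of_dvd_pow h)), zero_add, hpv] at h1
    have h2 := congrArg (padicValNat r) hcH
    rw [padicValNat.mul hc'0 Nat.card_pos.ne', padicValNat.eq_zero_of_not_dvd hrc', zero_add,
      padicValNat.pow] at h2
    rw [hH'card, h1, h2]
  obtain ⟨S₁⟩ : Nonempty (Sylow r H') := inferInstance
  let S₀ : Sylow r ↥(D.group K) := Sylow.ofCard ((S₁ : Subgroup H').map H'.subtype) (by
    rw [Subgroup.card_subtype, S₁.card_eq_multiplicity, Nat.factorization_def _ hr.out,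
      Nat.factorization_def _ hr.out, hvH])
  obtain ⟨S₂, hS₂⟩ := (P.isPGroup'.map φ).exists_le_sylow
  obtain ⟨g, hg⟩ := MulAction.exists_smul_eq ↥(D.group K) S₂ S₀
  -- the conjugated embedding into the diagonal subgroup
  let Φ : ↥(P : Subgroup ↥(D.group F)) →* GL D.Idx K :=
    (D.group K).subtype.comp ((MulAut.conj g).toMonoidHom.comp
      (φ.comp (P : Subgroup ↥(D.group F)).subtype))
  have hΦ : Function.Injective Φ := fun x y h =>
    Subtype.ext (hφ ((MulAut.conj g).injective (Subtype.ext h)))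
  have hΦmem : ∀ x, ∃ t, torus D K t = Φ x := by
    intro x
    have h1 : MulAut.conj g (φ x) ∈ (g • S₂ : Sylow r ↥(D.group K)) :=
      Subgroup.smul_mem_pointwise_smul _ (MulAut.conj g) _ (hS₂ ⟨x, x.2, rfl⟩)
    rw [hg] at h1
    obtain ⟨y, -, hy⟩ := h1
    have h2 : ((MulAut.conj g (φ x) : ↥(D.group K)) : GL D.Idx K) ∈ D.diagonalSubgroup K := by
      rw [← hy]; exact y.2
    rw [C.diagonalSubgroup_eq] at h2
    exact h2
  -- abelian, of exponent dividing `r ^ a`
  letI : CommGroup ↥(P : Subgroup ↥(D.group F)) :=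
    { (inferInstance : Group ↥(P : Subgroup ↥(D.group F))) with
      mul_comm := fun x y => hΦ (by
        obtain ⟨s, hs⟩ := hΦmem x
        obtain ⟨t, ht⟩ := hΦmem y
        rw [map_mul, map_mul, ← hs, ← ht, ← map_mul, ← map_mul, mul_comm]) }
  have hexp : ∀ x : ↥(P : Subgroup ↥(D.group F)), x ^ r ^ a = 1 := by
    intro x
    obtain ⟨t, ht⟩ := hΦmem x
    have h1 : x ^ (q ^ d - 1) = 1 := hΦ (by
      rw [map_pow, ← ht, ← map_pow, map_one]
      rw [show t ^ (q ^ d - 1) = 1 from funext fun i => by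
        rw [Pi.pow_apply, ← hKu]; exact pow_card_eq_one', map_one])
    obtain ⟨j, -, hj⟩ := (Nat.dvd_prime_pow hr.out).1 (hPcard ▸ orderOf_dvd_natCard x)
    rw [← orderOf_dvd_iff_pow_eq_one, hj] at h1
    rw [← orderOf_dvd_iff_pow_eq_one, hj]
    exact pow_dvd_pow r ((padicValNat_dvd_iff_le (by omega)).1 h1)
  -- coordinates of the elements of order `r`
  obtain ⟨j, hj⟩ := Arith.exists_zmod_hom (C := Kˣ) (m := r) (hKu.symm ▸ hrQ)
  let co : (Fin D.rank → ZMod r) → GL D.Idx K := fun v =>
    torus D K fun i => j (Multiplicative.ofAdd (v i))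
  have hco_inj : Function.Injective co := by
    intro v w h
    have h' : torus D K (fun i => j (Multiplicative.ofAdd (v i - w i))) = 1 := by
      rw [show (fun i => j (Multiplicative.ofAdd (v i - w i))) =
        (fun i => j (Multiplicative.ofAdd (v i))) * (fun i => j (Multiplicative.ofAdd (w i)))⁻¹ from
        funext fun i => by simp [sub_eq_add_neg], map_mul, map_inv, mul_inv_eq_one]
      exact h
    funext i
    have h1 := kerCert_kill Cker _ (torus_eq_one C K h') i
    have h2 : j (Multiplicative.ofAdd (v i - w i)) ^ r = 1 := by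
      rw [← map_pow, ← ofAdd_nsmul, ← map_one j]
      congr 1
      simp
    have h3 := pow_gcd_eq_one.2 ⟨h1, h2⟩
    rw [Nat.coprime_comm.1 ((Nat.Prime.coprime_iff_not_dvd hr.out).2 hrd), pow_one] at h3
    rw [← map_one j] at h3
    have := hj h3
    rw [ofAdd_eq_one, sub_eq_zero] at this
    exact this
  have hco_surj : ∀ x : ↥(P : Subgroup ↥(D.group F)), x ^ r = 1 → ∃ v, co v = Φ x := by
    intro x hx
    obtain ⟨t, ht⟩ := hΦmem x
    set s := ((d₀ : ZMod r)⁻¹).val with hs
    have hds : ((d₀ * s : ℕ) : ZMod r) = 1 := by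
      rw [Nat.cast_mul, hs, ZMod.natCast_zmod_val,
        mul_inv_cancel₀ (fun h => hrd ((ZMod.natCast_eq_zero_iff _ _).1 h))]
    have hmod : d₀ * s % r = 1 := by
      have h1 := congrArg ZMod.val hds
      rwa [ZMod.val_natCast, ZMod.val_one] at h1
    set t' := t ^ (d₀ * s) with ht'
    have h1 : torus D K t' = Φ x := by
      rw [ht', map_pow, ht, ← map_pow, pow_eq_pow_mod _ hx, hmod, pow_one]
    have h2 : ∀ i, t' i ^ r = 1 := by
      intro i
      have hk : torus D K (t ^ r) = 1 := by rw [map_pow, ht, ← map_pow, hx, map_one]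
      have := kerCert_kill Cker _ (torus_eq_one C K hk) i
      rw [Pi.pow_apply] at this
      rw [ht', Pi.pow_apply, ← pow_mul, show d₀ * s * r = r * d₀ * s by ring, pow_mul, pow_mul,
        this, one_pow]
    have hz : IsPrimitiveRoot ((j (Multiplicative.ofAdd 1) : Kˣ) : K) r := by
      have : orderOf (Multiplicative.ofAdd (1 : ZMod r)) = r := by
        rw [orderOf_ofAdd_eq_addOrderOf, ZMod.addOrderOf_one]
      rw [IsPrimitiveRoot.iff_orderOf, orderOf_units, orderOf_injective j hj]
      exact this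
    choose w hw using fun i => hz.eq_pow_of_pow_eq_one (ξ := (t' i : K)) (by
      rw [← Units.val_pow_eq_pow_val, h2 i, Units.val_one])
    refine ⟨fun i => (w i : ZMod r), ?_⟩
    rw [← h1]
    show torus D K _ = _
    congr 1
    funext i
    refine Units.ext ?_
    rw [← (hw i).2, ← Units.val_pow_eq_pow_val, ← map_pow, ← ofAdd_nsmul, nsmul_one]
  -- the element moving every torsion element to its power
  have hmap : ∀ {y : GL D.Idx K}, y ∈ D.group K →
      Matrix.GeneralLinearGroup.map σ y ∈ D.group K := fun hy => C.map_mem_group σ hy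
  obtain ⟨n, hn, hfus⟩ := fusion_all Q
    (mul_mem (hmap g.2) (inv_mem g.2) :
      Matrix.GeneralLinearGroup.map σ (g : GL D.Idx K) * (g : GL D.Idx K)⁻¹ ∈ D.group K)
  obtain ⟨L, hL, hact⟩ := monomial_act C K hn
  set M := wMat D L with hM
  have hpow : M ^ Nat.card Q.X.M.Group = 1 := wMat_pow Q hL
  obtain ⟨k, hk, hEle⟩ := card_eigen_le (r := r) hpow (hW K) hdpos
    (IsPrimitiveRoot.orderOf (q : ZMod r))
    {v | M.map (Int.castRingHom (ZMod r)) *ᵥ v = (q : ZMod r) • v} (fun v hv => hv)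
  have hcardW : Nat.card Q.X.M.Group ≠ 0 := fun h => hW K (h ▸ dvd_zero r)
  have hkm := hbound M (wMat_mem L) _ hcardW hpow d k hex hk
  refine homocyclic_of_bound hapos hexp hPcard ?_
  choose v hv using fun x : {x : ↥(P : Subgroup ↥(D.group F)) // x ^ r = 1} => hco_surj x.1 x.2
  have hvE : ∀ x, v x ∈ {w : Fin D.rank → ZMod r |
      M.map (Int.castRingHom (ZMod r)) *ᵥ w = (q : ZMod r) • w} := by
    intro x
    refine hco_inj ?_
    set f := fun i => j (Multiplicative.ofAdd (v x i)) with hf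
    have hΦdef : Φ x.1 = (g : GL D.Idx K) * Matrix.GeneralLinearGroup.map ι (x.1.1 : GL D.Idx F) *
        (g : GL D.Idx K)⁻¹ := rfl
    have h1 : Matrix.GeneralLinearGroup.map σ (co (v x)) =
        (Matrix.GeneralLinearGroup.map σ (g : GL D.Idx K) * (g : GL D.Idx K)⁻¹) * co (v x) *
          (Matrix.GeneralLinearGroup.map σ (g : GL D.Idx K) * (g : GL D.Idx K)⁻¹)⁻¹ := by
      rw [hv x, hΦdef, map_mul, map_mul, map_inv, hσι]
      group
    have h2 : Matrix.GeneralLinearGroup.map σ (co (v x)) = torus D K (f ^ q) := by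
      rw [show co (v x) = torus D K f from rfl, map_torus]
      congr 1
      funext i
      exact Units.ext (by simp [hσ])
    have hd1 : co (v x) ∈ D.diagonalSubgroup K := by
      rw [C.diagonalSubgroup_eq]; exact ⟨f, rfl⟩
    have hd2 : torus D K (f ^ q) ∈ D.diagonalSubgroup K := by
      rw [C.diagonalSubgroup_eq]; exact ⟨_, rfl⟩
    have h3 := hfus _ hd1 _ hd2 (h1.symm.trans h2)
    rw [show co (v x) = torus D K f from rfl, hact f] at h3
    have e1 : co (M.map (Int.castRingHom (ZMod r)) *ᵥ v x) = torus D K (act M f) := by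
      show torus D K _ = _
      congr 1
      funext i
      simp only [act, hf, ← map_zpow, ← map_prod, ← ofAdd_zsmul, ← ofAdd_sum]
      congr 2
      simp [Matrix.mulVec, dotProduct, zsmul_eq_mul]
    have e2 : co ((q : ZMod r) • v x) = torus D K (f ^ q) := by
      show torus D K _ = _
      congr 1
      funext i
      rw [Pi.pow_apply, hf, ← map_pow, ← ofAdd_nsmul, nsmul_eq_mul, Pi.smul_apply, smul_eq_mul]
    rw [e1, e2, h3]
  refine le_trans (Nat.card_le_card_of_injective (fun x => ⟨v x, hvE x⟩) ?_)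
    (hEle.trans (Nat.pow_le_pow_right hr.out.pos hkm))
  intro x y h
  refine Subtype.ext (hΦ ?_)
  rw [← hv x, ← hv y, show v x = v y from congrArg Subtype.val h]

end Cfsg.Agent.H77.Homocyclic
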