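import Mathlib

/-!
Integer matrices of finite order: the characteristic polynomial against cyclotomic polynomials,
the dimension of eigenspaces modulo a prime.
-/
set_option autoImplicit false

namespace Cfsg.Agent.H77.Homocyclic

open Polynomial Matrix

variable {n l : ℕ}

/-- The characteristic polynomial of a matrix with `M ^ l = 1` divides `(X ^ l - 1) ^ n`. -/
theorem charpoly_dvd {M : Matrix (Fin n) (Fin n) ℤ} (h : M ^ l = 1) :
    M.charpoly ∣ (X ^ l - 1 : ℤ[X]) ^ n := by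
  have hc : Commute (Matrix.scalar (Fin n) (X : ℤ[X])) ((C : ℤ →+* ℤ[X]).mapMatrix M) :=
    Matrix.scalar_commute _ (fun r => Commute.all _ r) _
  have hg := hc.mul_geom_sum₂ l
  have hM : ((C : ℤ →+* ℤ[X]).mapMatrix M) ^ l = 1 := by rw [← map_pow, h, map_one]
  rw [hM, ← map_pow, ← map_one (Matrix.scalar (Fin n) : ℤ[X] →+* _), ← map_sub] at hg
  have hd := congrArg Matrix.det hg
  rw [Matrix.det_mul, show (Matrix.scalar (Fin n) ((X : ℤ[X]) ^ l - 1)).det
    = ((X : ℤ[X]) ^ l - 1) ^ n from by simp [Matrix.scalar_apply, Matrix.det_diagonal]] at hd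
  exact ⟨_, hd.symm⟩

variable {r : ℕ} [Fact r.Prime]

theorem natCast_ne_zero_of_dvd {i : ℕ} (hrl : ¬ r ∣ l) (hi : i ∣ l) : (i : ZMod r) ≠ 0 :=
  fun h => hrl (((ZMod.natCast_eq_zero_iff _ _).1 h).trans hi)

/-- A divisor of `(X ^ l - 1) ^ N` with a primitive `d`-th root of unity modulo `r` as a root is
divisible by the cyclotomic polynomial. -/
theorem cyclotomic_dvd {f : ℤ[X]} {N : ℕ} (hrl : ¬ r ∣ l) (hf : f ∣ (X ^ l - 1) ^ N) {d : ℕ}
    (hd : 0 < d) {z : ZMod r} (hz : IsPrimitiveRoot z d)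
    (hroot : (f.map (Int.castRingHom (ZMod r))).IsRoot z) : cyclotomic d ℤ ∣ f := by
  by_contra hnd
  have hl : 0 < l := Nat.pos_of_ne_zero (by rintro rfl; exact hrl (dvd_zero r))
  have hsplit : ∃ a b, (X ^ l - 1 : ℤ[X]) = cyclotomic d ℤ ^ a * b ∧
      (b.map (Int.castRingHom (ZMod r))).eval z ≠ 0 := by
    have hother : ∀ S : Finset ℕ, (∀ i ∈ S, i ∣ l ∧ i ≠ d) →
        ((∏ i ∈ S, cyclotomic i ℤ).map (Int.castRingHom (ZMod r))).eval z ≠ 0 := by
      intro S hS
      rw [Polynomial.map_prod, eval_prod, Finset.prod_ne_zero_iff]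
      intro i hi h0
      rw [map_cyclotomic] at h0
      haveI : NeZero (i : ZMod r) := ⟨natCast_ne_zero_of_dvd hrl (hS i hi).1⟩
      exact (hS i hi).2 (((isRoot_cyclotomic_iff (R := ZMod r)).1 h0).unique hz)
    rw [← prod_cyclotomic_eq_X_pow_sub_one hl ℤ]
    by_cases hdl : d ∈ l.divisors
    · refine ⟨1, ∏ i ∈ l.divisors.erase d, cyclotomic i ℤ,
        by rw [pow_one]; exact (Finset.mul_prod_erase l.divisors (fun i => cyclotomic i ℤ) hdl).symm,
        hother _ fun i hi => ?_⟩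
      rw [Finset.mem_erase, Nat.mem_divisors] at hi
      exact ⟨hi.2.1, hi.1⟩
    · refine ⟨0, ∏ i ∈ l.divisors, cyclotomic i ℤ, by rw [pow_zero, one_mul],
        hother _ fun i hi => ?_⟩
      exact ⟨(Nat.mem_divisors.1 hi).1, fun h => hdl (h ▸ hi)⟩
  obtain ⟨a, b, hab, hb⟩ := hsplit
  obtain ⟨g, hg⟩ := hf
  rw [hab, mul_pow, ← pow_mul] at hg
  have hp : Prime (cyclotomic d ℤ) := (cyclotomic.irreducible hd).prime
  obtain ⟨g', rfl⟩ : cyclotomic d ℤ ^ (a * N) ∣ g := by
    exact hp.pow_dvd_of_dvd_mul_left _ hnd ⟨_, hg.symm⟩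
  have hcanc : b ^ N = f * g' :=
    mul_left_cancel₀ (pow_ne_zero (a * N) hp.ne_zero) (by rw [hg]; ring)
  have hev := congrArg (fun p : ℤ[X] => (p.map (Int.castRingHom (ZMod r))).eval z) hcanc
  simp only [Polynomial.map_pow, eval_pow, Polynomial.map_mul, eval_mul] at hev
  rw [IsRoot.def.1 hroot, zero_mul] at hev
  exact hb (eq_zero_of_pow_eq_zero hev)

/-- The multiplicity of a primitive `d`-th root of unity modulo `r` is bounded by the exponent of
the cyclotomic polynomial. -/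
theorem cyclotomic_pow_dvd {d N : ℕ} (hrl : ¬ r ∣ l) (hd : 0 < d) {z : ZMod r}
    (hz : IsPrimitiveRoot z d) :
    ∀ k (f : ℤ[X]), f.Monic → f ∣ (X ^ l - 1) ^ N →
      k ≤ (f.map (Int.castRingHom (ZMod r))).rootMultiplicity z → cyclotomic d ℤ ^ k ∣ f := by
  intro k
  induction k with
  | zero => intro f _ _ _; simp
  | succ k ih =>
    intro f hfm hf hk
    have hf0 : f.map (Int.castRingHom (ZMod r)) ≠ 0 := (hfm.map _).ne_zero
    have hroot := (Polynomial.rootMultiplicity_pos hf0).1 (lt_of_lt_of_le (Nat.succ_pos k) hk)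
    have hdvd := cyclotomic_dvd hrl hf hd hz hroot
    obtain ⟨g, rfl⟩ := hdvd
    have hgm : g.Monic := (cyclotomic.monic d ℤ).of_mul_monic_left hfm
    rw [pow_succ']
    refine mul_dvd_mul_left _ (ih g hgm ((Dvd.intro_left _ rfl).trans hf) ?_)
    rw [Polynomial.map_mul, map_cyclotomic] at hk hf0
    rw [rootMultiplicity_mul hf0] at hk
    have hdr : (d : ZMod r) ≠ 0 := fun h => by
      have h1 : d ∣ r - 1 := by
        rw [hz.eq_orderOf]
        refine ZMod.orderOf_dvd_card_sub_one ?_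
        exact hz.ne_zero hd.ne'
      have h2 := Nat.le_of_dvd (by have := (Fact.out : r.Prime).two_le; omega) h1
      have h3 := Nat.le_of_dvd hd ((ZMod.natCast_eq_zero_iff _ _).1 h)
      have := (Fact.out : r.Prime).two_le
      omega
    have : NeZero (d : ZMod r) := ⟨hdr⟩
    have := rootMultiplicity_le_one_of_separable (separable_cyclotomic d (ZMod r)) z
    omega

/-- Eigenvectors modulo `r` for a primitive `d`-th root of unity. -/
theorem card_eigen_le {M : Matrix (Fin n) (Fin n) ℤ} (hl : M ^ l = 1) (hrl : ¬ r ∣ l) {d : ℕ}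
    (hd : 0 < d) {z : ZMod r} (hz : IsPrimitiveRoot z d) (E : Set (Fin n → ZMod r))
    (hE : ∀ v ∈ E, (M.map (Int.castRingHom (ZMod r))) *ᵥ v = z • v) :
    ∃ k, cyclotomic d ℤ ^ k ∣ M.charpoly ∧ Nat.card E ≤ r ^ k := by
  set f := Matrix.toLin' (M.map (Int.castRingHom (ZMod r))) with hf
  set S := Module.End.eigenspace f z with hS
  refine ⟨Module.finrank (ZMod r) S, ?_, ?_⟩
  · refine cyclotomic_pow_dvd hrl hd hz _ _ M.charpoly_monic (charpoly_dvd hl) ?_
    have := LinearMap.finrank_eigenspace_le f z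
    rw [hf, Matrix.charpoly_toLin', Matrix.charpoly_map] at this
    exact this
  · have hsub : E ⊆ (S : Set (Fin n → ZMod r)) := fun v hv => by
      rw [SetLike.mem_coe, Module.End.mem_eigenspace_iff, hf, Matrix.toLin'_apply]
      exact hE v hv
    refine (Nat.card_mono (Set.toFinite _) hsub).trans (le_of_eq ?_)
    show Nat.card S = _
    rw [Module.natCard_eq_pow_finrank (K := ZMod r), Nat.card_zmod]

omit [Fact r.Prime] in
/-- `k φ(d) ≤ n`. -/
theorem mul_totient_le {M : Matrix (Fin n) (Fin n) ℤ} {d k : ℕ}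
    (h : cyclotomic d ℤ ^ k ∣ M.charpoly) : k * d.totient ≤ n := by
  have := natDegree_le_of_dvd h M.charpoly_monic.ne_zero
  rwa [natDegree_pow, natDegree_cyclotomic, Matrix.charpoly_natDegree_eq_dim,
    Fintype.card_fin] at this

/-- A matrix of finite order is killed by the radical of a multiple of its characteristic
polynomial. -/
theorem aeval_eq_zero {M : Matrix (Fin n) (Fin n) ℤ} (hl : M ^ l = 1) (hl0 : l ≠ 0) {g : ℤ[X]}
    {k : ℕ} (h : M.charpoly ∣ g ^ k) : aeval M g = 0 := by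
  set φ := Int.castRingHom ℚ
  set N : Matrix (Fin n) (Fin n) ℚ := φ.mapMatrix M with hN
  have h1 : minpoly ℚ N ∣ X ^ l - 1 := minpoly.dvd ℚ N (by
    simp only [map_sub, map_pow, aeval_X, map_one]
    rw [hN, ← map_pow, hl, map_one, sub_self])
  have hsq : Squarefree (X ^ l - 1 : ℚ[X]) :=
    (X_pow_sub_one_separable_iff.2 (by exact_mod_cast hl0)).squarefree
  have h2 : minpoly ℚ N ∣ (g.map φ) ^ k := by
    refine (Matrix.minpoly_dvd_charpoly N).trans ?_
    rw [hN, RingHom.mapMatrix_apply, Matrix.charpoly_map, ← Polynomial.map_pow]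
    exact Polynomial.map_dvd φ h
  have h3 : aeval N (g.map φ) = 0 :=
    aeval_eq_zero_of_dvd_aeval_eq_zero
      ((hsq.squarefree_of_dvd h1).isRadical _ _ h2) (minpoly.aeval ℚ N)
  have h4 : φ.mapMatrix (aeval M g) = aeval N (g.map φ) := by
    refine Polynomial.map_aeval_eq_aeval_map (φ := φ) (ψ := φ.mapMatrix) (RingHom.ext fun z => ?_) g M
    ext i j
    simp [φ]
  rw [h3] at h4
  ext i j
  have := congrFun (congrFun h4 i) j
  simpa [φ] using this

end Cfsg.Agent.H77.Homocyclic
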