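import Cfsg.Agent.H77.Homocyclic.Poly

/-!
Integer matrices preserving a symmetric form with a reflection as a polynomial value.
-/
set_option autoImplicit false

namespace Cfsg.Agent.H77.Homocyclic

open Polynomial Matrix

variable {n l : ℕ}

/-- A fundamental reflection on coordinates with respect to the coroots. -/
def refl (A : Matrix (Fin n) (Fin n) ℤ) (i : Fin n) : Matrix (Fin n) (Fin n) ℤ :=
  Matrix.of fun m j => (if m = j then 1 else 0) - if m = i then A j i else 0

/-- The monoid generated by the fundamental reflections. -/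
def weylMonoid (A : Matrix (Fin n) (Fin n) ℤ) : Submonoid (Matrix (Fin n) (Fin n) ℤ) :=
  Submonoid.closure (Set.range (refl A))

theorem form_invariant {A : Matrix (Fin n) (Fin n) ℤ}
    (h : ∀ i, (refl A i)ᵀ * A * refl A i = A) {M : Matrix (Fin n) (Fin n) ℤ}
    (hM : M ∈ weylMonoid A) : Mᵀ * A * M = A := by
  induction hM using Submonoid.closure_induction with
  | mem x hx => obtain ⟨i, rfl⟩ := hx; exact h i
  | one => simp
  | mul M N _ _ hM hN =>
    calc (M * N)ᵀ * A * (M * N) = Nᵀ * (Mᵀ * A * M) * N := by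
          simp only [Matrix.transpose_mul, mul_assoc]
      _ = A := by rw [hM, hN]

theorem fixed_mod {A : Matrix (Fin n) (Fin n) ℤ} {p : ℕ} {u : Fin n → ZMod p}
    (h : ∀ i, (refl A i).map (Int.castRingHom (ZMod p)) *ᵥ u = u)
    {M : Matrix (Fin n) (Fin n) ℤ} (hM : M ∈ weylMonoid A) :
    M.map (Int.castRingHom (ZMod p)) *ᵥ u = u := by
  induction hM using Submonoid.closure_induction with
  | mem x hx => obtain ⟨i, rfl⟩ := hx; exact h i
  | one => simp
  | mul M N _ _ hM hN =>
    rw [Matrix.map_mul, ← Matrix.mulVec_mulVec, hN, hM]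

theorem cast_eval_one_eq_zero {p : ℕ} [Fact p.Prime] {u : Fin n → ZMod p} (hu : u ≠ 0)
    {M : Matrix (Fin n) (Fin n) ℤ} (h : M.map (Int.castRingHom (ZMod p)) *ᵥ u = u) :
    ((M.charpoly.eval 1 : ℤ) : ZMod p) = 0 := by
  have : ((M.charpoly.eval 1 : ℤ) : ZMod p) = (M.map (Int.castRingHom (ZMod p))).charpoly.eval 1 := by
    rw [Matrix.charpoly_map, eval_map, eval₂_at_one]
    rfl
  rw [this, Matrix.eval_charpoly, map_one]
  refine Matrix.exists_mulVec_eq_zero_iff.1 ⟨u, hu, ?_⟩
  rw [Matrix.sub_mulVec, Matrix.one_mulVec, h, sub_self]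

/-- A monic divisor of `(X ^ l - 1) ^ n` of degree one is `X ∓ 1`. -/
theorem linear_factor {g : ℤ[X]} (hm : g.Monic) (hd : g.natDegree = 1) (hl : l ≠ 0)
    (h : g ∣ (X ^ l - 1) ^ n) : ∃ e : ℤ, (e = 1 ∨ e = -1) ∧ g = X - C e := by
  refine ⟨-g.coeff 0, ?_, ?_⟩
  · have hg : g = X + C (g.coeff 0) := hm.eq_X_add_C hd
    have h0 : (((X : ℤ[X]) ^ l - 1) ^ n).eval (-g.coeff 0) = 0 := by
      refine eval_eq_zero_of_dvd_of_eval_eq_zero h ?_
      rw [hg]; simp
    simp only [eval_pow, eval_sub, eval_X, eval_one] at h0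
    have h1 : (-g.coeff 0) ^ l = 1 := sub_eq_zero.1 (eq_zero_of_pow_eq_zero h0)
    exact Int.isUnit_iff.1 (IsUnit.of_pow_eq_one h1 hl)
  · rw [map_neg, sub_neg_eq_add]; exact hm.eq_X_add_C hd

/-- If the characteristic polynomial is `P ^ k (X - e)` with `P(e) = 2`, then `P(M)` is `v fᵀ` with
`v` primitive, `M v = e v` and `f ⬝ v = 2`. -/
theorem rank_one {M : Matrix (Fin n) (Fin n) ℤ} (hl : M ^ l = 1) (hl0 : l ≠ 0) {P : ℤ[X]}
    {e : ℤ} {k : ℕ} (hk : k ≠ 0) (hP : P.eval e = 2) (hchi : M.charpoly = P ^ k * (X - C e)) :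
    ∃ v f : Fin n → ℤ, Finset.univ.gcd v = 1 ∧ M *ᵥ v = e • v ∧ f ⬝ᵥ v = 2 ∧
      aeval M P = Matrix.of fun i j => v i * f j := by
  set T := aeval M P with hT
  have hkill : aeval M ((X - C e) * P) = 0 := by
    refine aeval_eq_zero (k := k) hl hl0 ?_
    rw [hchi, mul_pow, mul_comm (P ^ k)]
    exact mul_dvd_mul_right (dvd_pow_self _ hk) _
  have hcol : ∀ j, M *ᵥ (fun i => T i j) = e • fun i => T i j := by
    intro j
    rw [map_mul, map_sub, aeval_X, aeval_C, sub_mul, sub_eq_zero] at hkill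
    funext i
    have := congrFun (congrFun hkill i) j
    rw [← hT, Matrix.mul_apply, Algebra.algebraMap_eq_smul_one, smul_mul_assoc, one_mul] at this
    exact this
  obtain ⟨w, hw0, hw⟩ : ∃ w : Fin n → ℤ, w ≠ 0 ∧ M *ᵥ w = e • w := by
    have hd : (Matrix.scalar (Fin n) e - M).det = 0 := by
      rw [← Matrix.eval_charpoly, hchi]; simp
    obtain ⟨w, hw0, hw⟩ := Matrix.exists_mulVec_eq_zero_iff.2 hd
    refine ⟨w, hw0, ?_⟩
    rw [Matrix.sub_mulVec, sub_eq_zero] at hw
    rw [← hw]
    funext i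
    simp [Matrix.scalar_apply, Matrix.mulVec_diagonal]
  have hTw : T *ᵥ w = (2 : ℤ) • w := by
    have hpow : ∀ m : ℕ, M ^ m *ᵥ w = e ^ m • w := by
      intro m
      induction m with
      | zero => simp
      | succ m ih => rw [pow_succ, ← Matrix.mulVec_mulVec, hw, Matrix.mulVec_smul, ih, smul_smul, pow_succ']
    have key : ∀ R : ℤ[X], aeval M R *ᵥ w = R.eval e • w := by
      intro R
      induction R using Polynomial.induction_on' with
      | add p q hp hq => rw [map_add, Matrix.add_mulVec, hp, hq, eval_add, add_smul]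
      | monomial m a =>
          rw [aeval_monomial, Algebra.algebraMap_eq_smul_one, smul_mul_assoc, one_mul,
            Matrix.smul_mulVec, hpow, smul_smul, eval_monomial]
    rw [hT, key, hP]
  -- every eigenvector is proportional to `w`
  have hprop : ∀ x : Fin n → ℤ, M *ᵥ x = e • x → ∀ i j, x i * w j = x j * w i := by
    intro x hx i j
    set φ := Int.castRingHom ℚ with hφ
    set f := Matrix.toLin' (M.map φ) with hf
    have hmem : ∀ y : Fin n → ℤ, M *ᵥ y = e • y →
        (fun i => (y i : ℚ)) ∈ Module.End.eigenspace f (e : ℚ) := by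
      intro y hy
      rw [Module.End.mem_eigenspace_iff, hf, Matrix.toLin'_apply]
      funext i
      have := congrArg (fun z : ℤ => (z : ℚ)) (congrFun hy i)
      simpa [Matrix.mulVec, dotProduct, φ] using this
    have hle : Module.finrank ℚ (Module.End.eigenspace f (e : ℚ)) ≤ 1 := by
      refine (LinearMap.finrank_eigenspace_le f _).trans (le_of_eq ?_)
      rw [hf, Matrix.charpoly_toLin', Matrix.charpoly_map, hchi, Polynomial.map_mul,
        Polynomial.map_pow, Polynomial.map_sub, map_X, map_C, hφ, eq_intCast]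
      have hPe : ¬ (P.map φ).IsRoot (e : ℚ) := by
        rw [IsRoot.def, eval_map, show (e : ℚ) = φ e from rfl, eval₂_at_apply, hP]
        norm_num [φ]
      have hP0 : P.map φ ≠ 0 := fun h0 => hPe (by simp [h0])
      rw [rootMultiplicity_mul (mul_ne_zero (pow_ne_zero _ hP0) (X_sub_C_ne_zero _)),
        rootMultiplicity_eq_zero (by simpa [IsRoot.def, hk] using hPe),
        rootMultiplicity_X_sub_C_self]
    obtain ⟨⟨b, hb⟩, hgen⟩ := finrank_le_one_iff.1 hle
    obtain ⟨c, hc⟩ := hgen ⟨_, hmem x hx⟩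
    obtain ⟨c', hc'⟩ := hgen ⟨_, hmem w hw⟩
    have h1 := fun i => congrFun (congrArg Subtype.val hc) i
    have h2 := fun i => congrFun (congrArg Subtype.val hc') i
    simp only [SetLike.mk_smul_mk, Pi.smul_apply, smul_eq_mul] at h1 h2
    have : (x i : ℚ) * w j = x j * w i := by rw [← h1, ← h1, ← h2, ← h2]; ring
    exact_mod_cast this
  obtain ⟨i0, hi0⟩ : ∃ i0, w i0 ≠ 0 := Function.ne_iff.1 hw0
  haveI : Nonempty (Fin n) := ⟨i0⟩
  obtain ⟨v, hv, hgcd⟩ := Finset.extract_gcd w (s := Finset.univ) Finset.univ_nonempty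
  set g := Finset.univ.gcd w with hg
  have hg0 : g ≠ 0 := fun h => hi0 (by rw [hv i0 (Finset.mem_univ _), h, zero_mul])
  have hv' : ∀ i, w i = g * v i := fun i => hv i (Finset.mem_univ _)
  have hvi0 : v i0 ≠ 0 := fun h => hi0 (by rw [hv', h, mul_zero])
  have hTv : ∀ i j k, T i j * v k = T k j * v i := by
    intro i j k
    have := hprop _ (hcol j) i k
    simp only [hv'] at this
    exact mul_left_cancel₀ hg0 (by linarith)
  have hdvd : ∀ j, v i0 ∣ T i0 j := by
    intro j
    have h1 : v i0 ∣ Finset.univ.gcd fun k => T i0 j * v k :=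
      Finset.dvd_gcd fun k _ => ⟨T k j, by rw [hTv i0 j k, mul_comm]⟩
    rw [Finset.gcd_mul_left, hgcd, mul_one] at h1
    exact dvd_normalize_iff.1 h1
  choose f hf using hdvd
  have hTeq : T = Matrix.of fun i j => v i * f j := by
    ext i j
    refine mul_right_cancel₀ hvi0 ?_
    rw [Matrix.of_apply, hTv i j i0, hf j]
    ring
  refine ⟨v, f, hgcd, ?_, ?_, hTeq⟩
  · funext i
    refine mul_left_cancel₀ hg0 ?_
    have := congrFun hw i
    rw [show w = g • v from funext hv', Matrix.mulVec_smul] at this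
    simp only [Pi.smul_apply, smul_eq_mul] at this ⊢
    linarith
  · have := congrFun hTw i0
    rw [hTeq, show w = g • v from funext hv'] at this
    simp only [Matrix.mulVec, dotProduct, Matrix.of_apply, Pi.smul_apply, smul_eq_mul] at this
    rw [show ∑ x, v i0 * f x * (g * v x) = g * v i0 * ∑ x, f x * v x by
      rw [Finset.mul_sum]; exact Finset.sum_congr rfl fun x _ => by ring] at this
    exact mul_left_cancel₀ (mul_ne_zero hg0 hvi0) (this.trans (mul_comm _ _))

/-- An involutive isometry `N` of a symmetric form with `N + 1 = v fᵀ`. -/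
theorem reflection_norm {A A' N : Matrix (Fin n) (Fin n) ℤ} {δ : ℤ} (hsym : Aᵀ = A)
    (hA' : A' * A = δ • (1 : Matrix (Fin n) (Fin n) ℤ)) (hform : Nᵀ * A * N = A)
    {v f : Fin n → ℤ} (hgcd : Finset.univ.gcd v = 1) (hNv : N *ᵥ v = v) (hfv : f ⬝ᵥ v = 2)
    (hT : N + 1 = Matrix.of fun i j => v i * f j) :
    (∀ i, f i * (v ⬝ᵥ (A *ᵥ v)) = 2 * (A *ᵥ v) i) ∧ v ⬝ᵥ (A *ᵥ v) ∣ 2 * δ := by
  have hNT : N * (N + 1) = N + 1 := by
    rw [hT]
    ext i j
    rw [Matrix.mul_apply]
    calc ∑ x, N i x * (v x * f j) = (N *ᵥ v) i * f j := by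
          simp only [Matrix.mulVec, dotProduct, Finset.sum_mul, mul_assoc]
      _ = _ := by rw [hNv]; rfl
  have hN2 : N * N = 1 := by
    rw [mul_add, mul_one, add_comm N 1] at hNT
    exact add_right_cancel hNT
  have hadj : (N + 1)ᵀ * A = A * (N + 1) := by
    have : Nᵀ * A = A * N := by
      calc Nᵀ * A = Nᵀ * A * (N * N) := by rw [hN2, mul_one]
        _ = A * N := by rw [← mul_assoc, hform]
    rw [Matrix.transpose_add, Matrix.transpose_one, add_mul, one_mul, this, mul_add, mul_one]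
  have hent : ∀ i j, f i * (A *ᵥ v) j = (A *ᵥ v) i * f j := by
    intro i j
    have := congrFun (congrFun hadj i) j
    rw [hT, Matrix.mul_apply, Matrix.mul_apply] at this
    simp only [Matrix.transpose_apply, Matrix.of_apply] at this
    calc f i * (A *ᵥ v) j = ∑ x, v x * f i * A x j := by
          rw [Matrix.mulVec, dotProduct, Finset.mul_sum]
          refine Finset.sum_congr rfl fun x _ => ?_
          rw [show A j x = A x j from congrFun (congrFun hsym x) j]; ring
      _ = ∑ x, A i x * (v x * f j) := this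
      _ = (A *ᵥ v) i * f j := by
          rw [Matrix.mulVec, dotProduct, Finset.sum_mul]
          exact Finset.sum_congr rfl fun x _ => by ring
  have hmain : ∀ i, f i * (v ⬝ᵥ (A *ᵥ v)) = 2 * (A *ᵥ v) i := by
    intro i
    rw [← hfv, dotProduct, dotProduct, Finset.mul_sum, Finset.sum_mul]
    refine Finset.sum_congr rfl fun j _ => ?_
    linear_combination v j * hent i j
  refine ⟨hmain, ?_⟩
  have hdv : ∀ k, v ⬝ᵥ (A *ᵥ v) ∣ 2 * δ * v k := by
    intro k
    refine ⟨(A' *ᵥ f) k, ?_⟩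
    have hvec : (v ⬝ᵥ (A *ᵥ v)) • f = (2 : ℤ) • (A *ᵥ v) := by
      funext i
      rw [Pi.smul_apply, Pi.smul_apply, smul_eq_mul, smul_eq_mul, mul_comm, hmain i]
    have h1 := congrArg (fun x => (A' *ᵥ x) k) hvec
    simp only [Matrix.mulVec_smul, Pi.smul_apply, smul_eq_mul, Matrix.mulVec_mulVec, hA',
      Matrix.smul_mulVec, Matrix.one_mulVec] at h1
    rw [h1]; ring
  have := Finset.dvd_gcd (s := Finset.univ) (f := fun k => 2 * δ * v k) fun k _ => hdv k
  rw [Finset.gcd_mul_left, hgcd, mul_one] at this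
  exact dvd_normalize_iff.1 this

end Cfsg.Agent.H77.Homocyclic
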