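import Cfsg.Agent.H77.Homocyclic.Lattice
import Cfsg.Agent.H37.Chev.All
import Cfsg.Agent.H37.CartanMap
import Cfsg.Agent.Chevalley.Mono
import Cfsg.Agent.Chevalley.Functorial

/-!
The action of the monomial subgroup on the coordinates of the diagonal subgroup.
-/
set_option autoImplicit false

namespace Cfsg.Agent.H77.Homocyclic

open Cfsg.Lie Matrix
open Cfsg.Agent.H37 (KerCert cartanHom)
open Cfsg.Agent.Chevalley (cor torus dU pe pairingSum Valid)

/-- The Cartan matrix of a datum. -/
def cartanMat (D : ChevalleyDatum) : Matrix (Fin D.rank) (Fin D.rank) ℤ :=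
  Matrix.of fun i j => D.cartan i (D.simple j)

section

variable {n : ℕ} {G : Type*} [CommGroup G]

/-- An integer matrix acting on tuples in an abelian group. -/
def act (M : Matrix (Fin n) (Fin n) ℤ) (c : Fin n → G) : Fin n → G :=
  fun m => ∏ j, c j ^ M m j

theorem zpow_sum' (g : G) {ι : Type*} (s : Finset ι) (f : ι → ℤ) :
    g ^ (∑ i ∈ s, f i) = ∏ i ∈ s, g ^ f i := by
  classical
  induction s using Finset.induction_on with
  | empty => simp
  | insert a s ha ih => rw [Finset.sum_insert ha, Finset.prod_insert ha, _root_.zpow_add, ih]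

theorem act_mul (M N : Matrix (Fin n) (Fin n) ℤ) (c : Fin n → G) :
    act (M * N) c = act M (act N c) := by
  funext m
  simp only [act, ← Finset.prod_zpow, ← _root_.zpow_mul, Matrix.mul_apply, zpow_sum']
  rw [Finset.prod_comm]
  exact Finset.prod_congr rfl fun i _ => Finset.prod_congr rfl fun j _ => by rw [mul_comm]

theorem act_one (c : Fin n → G) : act 1 c = c := by
  funext m
  simp only [act]
  rw [Finset.prod_eq_single m (fun j _ hj => by simp [Matrix.one_apply_ne (Ne.symm hj)]) (by simp)]
  simp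

theorem refl_sq {A : Matrix (Fin n) (Fin n) ℤ} {i : Fin n} (h : A i i = 2) :
    refl A i * refl A i = 1 := by
  ext m j
  simp only [Matrix.mul_apply, refl, Matrix.of_apply, Matrix.one_apply, sub_mul, mul_sub,
    Finset.sum_sub_distrib, ite_mul, zero_mul, one_mul, mul_ite, mul_zero, mul_one,
    Finset.sum_ite_eq, Finset.sum_ite_eq', Finset.mem_univ, if_true]
  by_cases hm : m = i
  · subst hm
    simp [h]
    split <;> ring
  · simp [hm]

theorem kerCert_kill {A : Matrix (Fin n) (Fin n) ℤ} {d e : ℕ} (C : KerCert A d e) (c : Fin n → G)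
    (h : ∀ j, ∏ i, c i ^ A i j = 1) (k : Fin n) : c k ^ d = 1 := by
  set v : Fin n → Additive G := fun i => Additive.ofMul (c i) with hv
  have hker : v ∈ (cartanHom A (Additive G)).ker := by
    rw [AddMonoidHom.mem_ker]
    funext j
    rw [H37.cartanHom_apply, Pi.zero_apply, ← ofMul_one, ← h j, ofMul_prod]
    exact Finset.sum_congr rfl fun i _ => (ofMul_zpow _ _).symm
  obtain ⟨h1, h2⟩ := C.mem_ker_iff.1 hker
  have h3 : (d : ℤ) • v k = 0 := by
    rw [h2 k, Finset.smul_sum]
    exact Finset.sum_eq_zero fun a _ => by rw [smul_comm, h1 a, smul_zero]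
  rw [natCast_zsmul, hv, ← ofMul_pow, ofMul_eq_zero] at h3
  exact h3

end

variable {D : ChevalleyDatum} (C : Chevalley.Cert D) (K : Type*) [Field K]

/-- The matrix of a word of fundamental reflections. -/
def wMat (D : ChevalleyDatum) (L : List ℕ) : Matrix (Fin D.rank) (Fin D.rank) ℤ :=
  (L.map fun i => if h : i < D.rank then refl (cartanMat D) ⟨i, h⟩ else 1).prod

theorem wMat_cons {i : ℕ} (hi : i < D.rank) (L : List ℕ) :
    wMat D (i :: L) = refl (cartanMat D) ⟨i, hi⟩ * wMat D L := by
  simp [wMat, hi]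

theorem wMat_mem (L : List ℕ) : wMat D L ∈ weylMonoid (cartanMat D) := by
  refine Submonoid.list_prod_mem _ fun x hx => ?_
  obtain ⟨i, -, rfl⟩ := List.mem_map.1 hx
  split
  · exact Submonoid.subset_closure ⟨_, rfl⟩
  · exact one_mem _

include C

theorem refl_cor {i : ℕ} (hi : i < D.rank) {s : ℕ} (hs : s < D.nroots) :
    refl (cartanMat D) ⟨i, hi⟩ *ᵥ (fun m : Fin D.rank => cor D s m)
      = fun m : Fin D.rank => cor D (C.w i s) m := by
  funext m
  rw [C.cor_w i hi s hs m m.isLt, Chevalley.list_sum_range_map,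
    ← Fin.sum_univ_eq_sum_range (fun j => cor D s j * D.cartan j (D.simple i))]
  simp only [Matrix.mulVec, dotProduct, refl, cartanMat, Matrix.of_apply, sub_mul, ite_mul, one_mul,
    zero_mul, Finset.sum_sub_distrib, Finset.sum_ite_eq, Finset.mem_univ, if_true]
  congr 1
  by_cases hm : (m : ℕ) = i
  · rw [if_pos hm]
    exact Finset.sum_congr rfl fun j _ => by rw [if_pos (Fin.ext hm), mul_comm]
  · rw [if_neg hm]
    exact Finset.sum_eq_zero fun j _ => by rw [if_neg (fun h => hm (congrArg Fin.val h))]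

theorem cor_w_simple {i : ℕ} (hi : i < D.rank) (m k : Fin D.rank) :
    cor D (C.w i (D.simple m)) k = refl (cartanMat D) ⟨i, hi⟩ k m := by
  have := congrFun (refl_cor C hi (C.simple_lt m m.isLt).1) k
  rw [← this]
  have e : (fun j : Fin D.rank => cor D (D.simple m) j) = Pi.single m 1 := by
    funext j
    rw [C.cor_simple m m.isLt j j.isLt, Pi.single_apply]
    simp [Fin.ext_iff]
  rw [e, Matrix.mulVec_single_one]
  rfl

theorem nS_conj_torus {i : ℕ} (hi : i < D.rank) (c : Fin D.rank → Kˣ) :
    C.nS K i * torus D K c * (C.nS K i)⁻¹ = torus D K (act (refl (cartanMat D) ⟨i, hi⟩) c) := by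
  rw [C.torus_eq_prod, ← MulAut.conj_apply, map_list_prod, List.map_map]
  have e : (fun m : Fin D.rank => (MulAut.conj (C.nS K i)) (C.hU K (D.simple m) (c m : K))) =
      fun m : Fin D.rank => torus D K (fun k => c m ^ cor D (C.w i (D.simple m)) k) := by
    funext m
    rw [MulAut.conj_apply, C.nS_conj_hU K hi (C.simple_lt m m.isLt).1,
      C.hU_eq_torus K (C.w_lt i hi _ (C.simple_lt m m.isLt).1).1]
  rw [show ((MulAut.conj (C.nS K i)) ∘ fun m : Fin D.rank => C.hU K (D.simple m) (c m : K)) =
    (torus D K) ∘ (fun (m : Fin D.rank) (k : Fin D.rank) => c m ^ cor D (C.w i (D.simple m)) k)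
    from e, ← List.map_map, ← map_list_prod]
  congr 1
  funext k
  rw [Pi.list_prod_apply, List.map_map, ← Fin.prod_univ_def]
  exact Finset.prod_congr rfl fun m _ => by simp [cor_w_simple C hi]

omit C in
theorem torus_comm (c c' : Fin D.rank → Kˣ) :
    torus D K c * torus D K c' * (torus D K c)⁻¹ = torus D K c' := by
  rw [← map_inv, ← map_mul, ← map_mul, mul_comm c c', mul_inv_cancel_right]

/-- A monomial element acts on the coordinates as a product of fundamental reflections. -/
theorem monomial_act {g : GL D.Idx K} (hg : g ∈ D.monomialSubgroup K) :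
    ∃ L, Valid D L ∧ ∀ c, g * torus D K c * g⁻¹ = torus D K (act (wMat D L) c) := by
  rw [C.monomialSubgroup_eq, ← Subgroup.closure_eq (D.diagonalSubgroup K),
    ← Subgroup.closure_union] at hg
  induction hg using Subgroup.closure_induction_left with
  | one => exact ⟨[], by simp [Valid], fun c => by simp [wMat, act_one]⟩
  | mul_left x hx y _ ih =>
    obtain ⟨L, hL, h⟩ := ih
    rcases hx with hx | ⟨i, hi, rfl⟩
    · rw [SetLike.mem_coe, C.diagonalSubgroup_eq] at hx
      obtain ⟨a, rfl⟩ := hx
      refine ⟨L, hL, fun c => ?_⟩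
      rw [← torus_comm K a (act (wMat D L) c), ← h c]
      group
    · refine ⟨i :: L, Chevalley.valid_cons.2 ⟨hi, hL⟩, fun c => ?_⟩
      rw [wMat_cons hi, act_mul, ← nS_conj_torus C K hi, ← h c]
      group
  | inv_mul_cancel x hx y _ ih =>
    obtain ⟨L, hL, h⟩ := ih
    rcases hx with hx | ⟨i, hi, rfl⟩
    · rw [SetLike.mem_coe, C.diagonalSubgroup_eq] at hx
      obtain ⟨a, rfl⟩ := hx
      refine ⟨L, hL, fun c => ?_⟩
      rw [← torus_comm K a⁻¹ (act (wMat D L) c), ← h c, map_inv]
      group
    · refine ⟨i :: L, Chevalley.valid_cons.2 ⟨hi, hL⟩, fun c => ?_⟩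
      have h2 := nS_conj_torus C K hi (act (wMat D (i :: L)) c)
      rw [← act_mul, wMat_cons hi, ← mul_assoc, refl_sq (by exact C.cartan_self i hi), one_mul]
        at h2
      rw [← h c, ← wMat_cons hi] at h2
      calc (C.nS K i)⁻¹ * y * torus D K c * ((C.nS K i)⁻¹ * y)⁻¹
          = (C.nS K i)⁻¹ * (y * torus D K c * y⁻¹) * C.nS K i := by group
        _ = _ := by rw [← h2]; group

theorem torus_eq_one {c : Fin D.rank → Kˣ} (h : torus D K c = 1) (j : Fin D.rank) :
    ∏ i, c i ^ cartanMat D i j = 1 := by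
  have h' : dU (fun x => ∏ m : Fin D.rank, c m ^ pe (D.simple m) x) = dU (F := K) (1 : D.Idx → Kˣ) := by
    rw [Chevalley.dU_one]; exact h
  have := congrFun (Chevalley.dU_inj h') (.inr ⟨D.simple j, (C.simple_lt j j.isLt).1⟩)
  rw [Pi.one_apply] at this
  rw [← this]
  refine Finset.prod_congr rfl fun i _ => ?_
  simp [pe, C.pairing_simple i.isLt, cartanMat]

omit C in
theorem map_torus (σ : K →+* K) (c : Fin D.rank → Kˣ) :
    Matrix.GeneralLinearGroup.map σ (torus D K c) =
      torus D K (fun m => Units.map (σ : K →* K) (c m)) := by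
  show Matrix.GeneralLinearGroup.map σ (dU _) = dU _
  refine Units.ext ?_
  show ((dU _ : GL D.Idx K) : Matrix D.Idx D.Idx K).map σ = _
  rw [Chevalley.coe_dU, Chevalley.coe_dU, Matrix.diagonal_map (map_zero σ)]
  congr 1
  funext x
  show σ ((∏ m, c m ^ pe (D.simple m) x : Kˣ) : K) = _
  simp [Units.val_zpow_eq_zpow_val, map_zpow₀]

omit C in
variable {K} in
/-- The order of a product of fundamental reflections divides that of a permutation of the
roots in the Weyl group. -/
theorem wMat_pow (Q : H37.Chev.Data D K) {L : List ℕ} (hL : Valid D L) :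
    wMat D L ^ Nat.card Q.X.M.Group = 1 := by
  set g : Q.X.M.Group := (L.map (H37.Weyl.gen Q.X.M)).prod with hg
  have hw : ∀ (L : List ℕ), Valid D L → ∀ s : Fin D.nroots,
      wMat D L *ᵥ (fun m : Fin D.rank => cor D s m)
        = fun m : Fin D.rank => cor D (Q.X.good.hom (L.map (H37.Weyl.gen Q.X.M)).prod s).val m := by
    intro L
    induction L with
    | nil => intro _ s; simp [wMat]
    | cons i L ih =>
      intro hL s
      obtain ⟨hi, hL'⟩ := Chevalley.valid_cons.1 hL
      rw [wMat_cons hi, ← Matrix.mulVec_mulVec, ih hL' s, refl_cor Q.K hi (Fin.isLt _)]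
      have hi' : i < Q.X.n := Q.rank_eq ▸ hi
      funext m
      congr 2
      rw [List.map_cons, List.prod_cons, map_mul, Equiv.Perm.mul_apply]
      rw [show H37.Weyl.gen Q.X.M i = Q.X.M.simple ⟨i, hi'⟩ from dif_pos hi',
        Q.X.good.hom_simple_val, Q.K.w_reflect i hi _ (Fin.isLt _)]
  have hpow : ∀ (k : ℕ) (s : Fin D.nroots), wMat D L ^ k *ᵥ (fun m : Fin D.rank => cor D s m)
      = fun m : Fin D.rank => cor D ((Q.X.good.hom (g ^ k)) s).val m := by
    intro k
    induction k with
    | zero => intro s; simp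
    | succ k ih =>
      intro s
      rw [pow_succ, ← Matrix.mulVec_mulVec, hw L hL s, ih, pow_succ g, map_mul, Equiv.Perm.mul_apply]
  refine Matrix.ext_of_mulVec_single fun j => ?_
  have e : (fun m : Fin D.rank => cor D (D.simple j) m) = Pi.single j 1 := by
    funext m
    rw [Q.K.cor_simple j j.isLt m m.isLt, Pi.single_apply]
    simp [Fin.ext_iff]
  rw [← e, hpow _ ⟨D.simple j, (Q.K.simple_lt j j.isLt).1⟩, Matrix.one_mulVec]
  have : g ^ Nat.card Q.X.M.Group = 1 := pow_card_eq_one'
  simp [this]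

end Cfsg.Agent.H77.Homocyclic
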